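import Mathlib.RingTheory.AdicCompletion.Noetherian
import Mathlib.RingTheory.Artinian.Module
import Mathlib.RingTheory.Filtration
import Mathlib.RingTheory.HopkinsLevitzki
import Mathlib.RingTheory.LocalRing.Quotient

/-!
# Nested cosets in finite modules over complete Noetherian local rings
-/

universe u v

open IsLocalRing

namespace Groth.Agent.GITChev

variable {R : Type u} [CommRing R] [IsLocalRing R] [IsNoetherianRing R]
variable {N : Type v} [AddCommGroup N] [Module R N] [Module.Finite R N]

omit [IsNoetherianRing R] in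
/-- A series with terms in the powers of the maximal ideal times a finite module over a complete local ring
converges. -/
theorem exists_sum_limit [IsAdicComplete (maximalIdeal R) R] (z : ℕ → N)
    (hz : ∀ t, z (t + 1) - z t ∈ (maximalIdeal R ^ t • ⊤ : Submodule R N)) :
    ∃ y, ∀ t, y - z t ∈ (maximalIdeal R ^ t • ⊤ : Submodule R N) := by
  obtain ⟨g, f, hf⟩ := Module.Finite.exists_fin' R N
  have hlift : ∀ t, ∃ c : Fin g → R, (∀ i, c i ∈ maximalIdeal R ^ t) ∧ f c = z (t + 1) - z t := by
    intro t
    have h := hz t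
    rw [← LinearMap.range_eq_top.mpr hf, ← Submodule.map_top, ← Submodule.map_smul''] at h
    obtain ⟨c, hc, hfc⟩ := h
    refine ⟨c, fun i => ?_, hfc⟩
    have hc' := Submodule.mem_map_of_mem (f := (LinearMap.proj i : (Fin g → R) →ₗ[R] R)) hc
    rw [Submodule.map_smul''] at hc'
    have := Submodule.smul_mono le_rfl le_top hc'
    rwa [smul_eq_mul, Ideal.mul_top] at this
  choose c hc hfc using hlift
  let s : Fin g → ℕ → R := fun i t => ∑ l ∈ Finset.range t, c l i
  have hs : ∀ i {m n : ℕ}, m ≤ n → s i m ≡ s i n [SMOD (maximalIdeal R ^ m • ⊤ : Ideal R)] := by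
    intro i m n hmn
    rw [SModEq.sub_mem, smul_eq_mul, Ideal.mul_top, ← neg_sub, Submodule.neg_mem_iff,
      ← Finset.sum_Ico_eq_sub _ hmn]
    exact Ideal.sum_mem _ fun l hl => Ideal.pow_le_pow_right (Finset.mem_Ico.mp hl).1 (hc l i)
  choose L hL using fun i => IsPrecomplete.prec (I := maximalIdeal R) inferInstance (f := s i) (hs i)
  refine ⟨z 0 + f L, fun t => ?_⟩
  have ht : z t = z 0 + f (fun i => s i t) := by
    induction t with
    | zero => simp [s, show (fun _ : Fin g => (0 : R)) = 0 from rfl]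
    | succ t ih =>
      have : (fun i => s i (t + 1)) = (fun i => s i t) + c t := by funext i; simp [s, Finset.sum_range_succ]
      rw [this, map_add, hfc, ← add_assoc, ← ih, add_sub_cancel]
  rw [ht, add_sub_add_left_eq_sub, ← map_sub]
  have hmem : L - (fun i => s i t) ∈ (maximalIdeal R ^ t • ⊤ : Submodule R (Fin g → R)) := by
    rw [pi_eq_sum_univ (L - fun i => s i t)]
    refine Submodule.sum_mem _ fun i _ => Submodule.smul_mem_smul ?_ trivial
    have := hL i t
    rw [SModEq.sub_mem, smul_eq_mul, Ideal.mul_top] at this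
    rw [Pi.sub_apply, ← neg_sub]
    exact Submodule.neg_mem _ this
  have h2 := Submodule.mem_map_of_mem (f := f) hmem
  rw [Submodule.map_smul''] at h2
  exact Submodule.smul_mono le_rfl le_top h2

omit [IsLocalRing R] [IsNoetherianRing R] in
theorem isArtinianRing_quotient_pow_succ [IsNoetherianRing R] (m : Ideal R) [m.IsMaximal] (t : ℕ) :
    IsArtinianRing (R ⧸ m ^ (t + 1)) := by
  haveI : IsNoetherianRing (R ⧸ m ^ (t + 1)) := isNoetherianRing_of_surjective _ _ (Ideal.Quotient.mk (m ^ (t + 1))) Ideal.Quotient.mk_surjective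
  refine isArtinianRing_iff_isNoetherianRing_krullDimLE_zero.mpr ⟨inferInstance, ?_⟩
  refine Ring.krullDimLE_zero_iff.mpr fun p hp => ?_
  haveI := hp
  have hle : m.map (Ideal.Quotient.mk (m ^ (t + 1))) ≤ p := by
    refine Ideal.IsPrime.le_of_pow_le (n := t + 1) ?_
    rw [← Ideal.map_pow, Ideal.map_quotient_self]
    exact bot_le
  have hmax : (m.map (Ideal.Quotient.mk (m ^ (t + 1)))).IsMaximal :=
    (Ideal.map_eq_top_or_isMaximal_of_surjective _ Ideal.Quotient.mk_surjective inferInstance).resolve_left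
      (fun h => hp.ne_top (top_le_iff.mp (h ▸ hle)))
  exact hmax.eq_of_le hp.ne_top hle ▸ hmax

/-- Descending chains of submodules stabilise modulo every power of the maximal ideal. -/
theorem exists_stable (P : ℕ → Submodule R N) (hP : Antitone P) (t : ℕ) :
    ∃ n₀, ∀ n, n₀ ≤ n → P n ⊔ maximalIdeal R ^ t • ⊤ = P n₀ ⊔ maximalIdeal R ^ t • ⊤ := by
  cases t with
  | zero => exact ⟨0, fun n _ => by simp⟩
  | succ t =>
    haveI := isArtinianRing_quotient_pow_succ (maximalIdeal R) t
    let Q := N ⧸ (maximalIdeal R ^ (t + 1) • ⊤ : Submodule R N)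
    haveI : Module.Finite (R ⧸ maximalIdeal R ^ (t + 1)) Q := Module.Finite.of_restrictScalars_finite R _ Q
    haveI : IsArtinian R Q := by
      haveI : IsArtinian (R ⧸ maximalIdeal R ^ (t + 1)) Q := inferInstance
      exact isArtinian_of_surjective_algebraMap (Ideal.Quotient.mk_surjective (I := maximalIdeal R ^ (t + 1)))
    obtain ⟨n₀, hn₀⟩ := IsArtinian.monotone_stabilizes (R := R) (M := Q)
      ⟨fun n => OrderDual.toDual ((P n).map (Submodule.mkQ _)), fun a b hab => Submodule.map_mono (hP hab)⟩
    refine ⟨n₀, fun n hn => ?_⟩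
    have := congrArg (Submodule.comap (Submodule.mkQ (maximalIdeal R ^ (t + 1) • ⊤ : Submodule R N)))
      (OrderDual.toDual.injective (hn₀ n hn))
    rw [Submodule.comap_map_eq, Submodule.comap_map_eq, Submodule.ker_mkQ] at this
    exact this.symm

/-- Nested cosets of submodules in a finite module over a complete Noetherian local ring meet. -/
theorem exists_mem_all [IsAdicComplete (maximalIdeal R) R] (P : ℕ → Submodule R N) (hP : Antitone P) (x : ℕ → N)
    (hx : ∀ n, x (n + 1) - x n ∈ P n) : ∃ y, ∀ n, y - x n ∈ P n := by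
  let J : ℕ → Submodule R N := fun t => maximalIdeal R ^ t • ⊤
  have hJ : Antitone J := fun a b hab => Submodule.smul_mono (Ideal.pow_le_pow_right hab) le_rfl
  have hdiff : ∀ {a b : ℕ}, a ≤ b → x b - x a ∈ P a := by
    intro a b hab
    induction b, hab using Nat.le_induction with
    | base => simp
    | succ b hab ih =>
      rw [← sub_add_sub_cancel (x (b + 1)) (x b) (x a)]
      exact (P a).add_mem (hP hab (hx b)) ih
  choose nt hnt using fun t => exists_stable P hP t
  -- `z` lies in all the cosets modulo `J t`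
  have hstep : ∀ t (z : N), (∀ n, z - x n ∈ P n ⊔ J t) →
      ∃ z', (∀ n, z' - x n ∈ P n ⊔ J (t + 1)) ∧ z' - z ∈ J t := by
    intro t z hz
    obtain ⟨u, hu, v, hv, huv⟩ := Submodule.mem_sup.mp (hz (nt (t + 1)))
    refine ⟨x (nt (t + 1)) + u, fun n => ?_, ?_⟩
    · rcases le_total n (nt (t + 1)) with h | h
      · refine Submodule.mem_sup_left ?_
        rw [add_sub_right_comm]
        exact (P n).add_mem (hdiff h) (hP h hu)
      · rw [hnt (t + 1) n h, add_sub_right_comm]
        refine Submodule.mem_sup_left ((P _).add_mem ?_ hu)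
        rw [← neg_sub]; exact (P _).neg_mem (hdiff h)
    · have : x (nt (t + 1)) + u - z = -v := by
        rw [show z = x (nt (t + 1)) + (u + v) by rw [huv, add_sub_cancel]]
        abel
      rw [this]; exact (J t).neg_mem hv
  choose next hnext hnext' using hstep
  have h0 : ∀ n, x 0 - x n ∈ P n ⊔ J 0 := fun n => by simp [J]
  let Z : (t : ℕ) → {z : N // ∀ n, z - x n ∈ P n ⊔ J t} := fun t =>
    Nat.rec (motive := fun t => {z : N // ∀ n, z - x n ∈ P n ⊔ J t}) ⟨x 0, h0⟩
      (fun t z => ⟨next t z.1 z.2, hnext t z.1 z.2⟩) t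
  obtain ⟨y, hy⟩ := exists_sum_limit (fun t => (Z t).1) (fun t => hnext' t (Z t).1 (Z t).2)
  refine ⟨y, fun n => ?_⟩
  have hQ : ∀ t, y - x n ∈ P n ⊔ J t := fun t => by
    rw [← sub_add_sub_cancel y ((Z t).1) (x n)]
    exact Submodule.add_mem _ (Submodule.mem_sup_right (hy t)) ((Z t).2 n)
  have h := Ideal.iInf_pow_smul_eq_bot_of_isLocalRing (R := R) (M := N ⧸ P n) (maximalIdeal R)
    (maximalIdeal.isMaximal R).ne_top
  rw [← Submodule.Quotient.mk_eq_zero, ← Submodule.mem_bot R, ← h, Submodule.mem_iInf]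
  intro t
  obtain ⟨p, hp, q, hq, e⟩ := Submodule.mem_sup.mp (hQ t)
  rw [← e, Submodule.Quotient.mk_add, (Submodule.Quotient.mk_eq_zero _).mpr hp, zero_add]
  have h2 := Submodule.mem_map_of_mem (f := (P n).mkQ) hq
  rw [Submodule.map_smul''] at h2
  exact Submodule.smul_mono le_rfl le_top h2

end Groth.Agent.GITChev
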